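import Groth.Agent.L08.MonoEndo.Core
import Groth.Agent.L23.SchemeFacts
import Groth.Agent.L05.ModelFG
import Groth.Agent.L19.Limit.Hom
import Groth.Agent.L02.ConsP.PairDescends

/-!
# EGA IV 17.9.6: a monomorphic endomorphism of a finitely presented scheme is an automorphism
-/

universe u

open CategoryTheory CategoryTheory.Limits AlgebraicGeometry Opposite MorphismProperty
open Groth.L19.Limit

namespace Groth.L08.MonoEndo

set_option backward.isDefEq.respectTransparency.types false
set_option backward.isDefEq.respectTransparency false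
set_option linter.style.haveILetI false

open Groth.L05.ModelFG in
theorem isIso_of_affine {A : Type u} [CommRing A] {X : Scheme.{u}}
    (f : X ⟶ Spec (CommRingCat.of A)) [LocallyOfFinitePresentation f] [QuasiCompact f]
    [QuasiSeparated f] (g : X ⟶ X) (hg : g ≫ f = f) [Mono g] : IsIso g := by
  haveI : ∀ S, CompactSpace ((specDiagram A).obj S) := fun S =>
    inferInstanceAs (CompactSpace (Spec _))
  haveI : ∀ S, QuasiSeparatedSpace ((specDiagram A).obj S) := fun S =>
    inferInstanceAs (QuasiSeparatedSpace (Spec _))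
  haveI : LocallyOfFinitePresentation (X := X) (Y := (specCone A).pt) f :=
    ‹LocallyOfFinitePresentation f›
  obtain ⟨j, X₀, f₀, q, h1, h2, h3, hsq⟩ :=
    Groth.L05.DescendFP.exists_stage (isLimitSpecCone A) (X := X) f
  haveI : CompactSpace X₀ := QuasiCompact.compactSpace_of_compactSpace f₀
  haveI : QuasiSeparatedSpace X₀ := quasiSeparatedSpace_of_quasiSeparated f₀
  obtain ⟨k, φ, fk, sX, sY, e1, a1, a2, b1, b2, hc⟩ :=
    exists_hom_stage (isLimitSpecCone A) hsq hsq g hg
  have hs : sY = sX := pullback.hom_ext (b1.trans a1.symm) (b2.trans a2.symm)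
  rw [hs] at hc
  set p := pullback.snd f₀ ((specDiagram A).map φ) with hp
  have hPk : IsPullback sX f p ((specCone A).π.app k) := by
    refine IsPullback.of_right (h₁₂ := pullback.fst f₀ ((specDiagram A).map φ))
      (h₂₂ := (specDiagram A).map φ) (v₁₃ := f₀) ?_ a2 (IsPullback.of_hasPullback _ _)
    rw [a1, (specCone A).w]
    exact hsq
  have hX : IsPullback sX g fk sX :=
    IsPullback.of_bot (by rw [e1, hg]; exact hPk) hc hPk
  haveI : LocallyOfFinitePresentation p := pullback_snd _ _ h1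
  haveI : QuasiCompact p := pullback_snd _ _ h2
  haveI : QuasiSeparated p := pullback_snd _ _ h3
  haveI : CompactSpace ↥(pullback f₀ ((specDiagram A).map φ)) :=
    QuasiCompact.compactSpace_of_compactSpace p
  haveI : LocallyOfFinitePresentation (fk ≫ p) := by rw [e1]; infer_instance
  haveI : QuasiCompact (fk ≫ p) := by rw [e1]; infer_instance
  haveI : QuasiSeparated (fk ≫ p) := by rw [e1]; infer_instance
  have hQ : qcqsfp fk := ⟨⟨QuasiCompact.of_comp fk p, QuasiSeparated.of_comp fk p⟩,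
    Groth.L23.lfp_of_comp_lft fk p inferInstance⟩
  obtain ⟨l, ψ, Xl, Yl, fl, gl, pY, pX, s1, s2, hm⟩ :=
    L02.ConsP.descends_mono'.exists_stage (isLimitSpecCone A) hQ hPk hX
      (inferInstance : Mono g)
  haveI : Mono fl := hm
  have s3 : IsPullback pX (fl ≫ gl) p ((specDiagram A).map ψ) := by
    have := s2.paste_vert s1
    rwa [e1] at this
  let e : Yl ≅ Xl := s1.isoIsPullback _ _ s3
  haveI : LocallyOfFiniteType gl :=
    MorphismProperty.of_isPullback (P := @LocallyOfFiniteType) s1 inferInstance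
  haveI : QuasiCompact gl := MorphismProperty.of_isPullback (P := @QuasiCompact) s1 inferInstance
  haveI hAl : Algebra.FiniteType ℤ l.unop.1 :=
    (Subalgebra.fg_iff_finiteType _).mp l.unop.2
  let z : (specDiagram A).obj l ⟶ Spec (CommRingCat.of (ULift.{u} ℤ)) :=
    Spec.map (CommRingCat.ofHom ((algebraMap ℤ l.unop.1).comp (ULift.ringEquiv (R := ℤ)).toRingHom))
  haveI : LocallyOfFiniteType z := by
    refine (HasRingHomProperty.Spec_iff (P := @LocallyOfFiniteType)).mpr ?_
    exact ((RingHom.finiteType_algebraMap (A := ℤ) (B := l.unop.1)).mpr hAl).comp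
      (RingHom.FiniteType.of_surjective _ (ULift.ringEquiv (R := ℤ)).surjective)
  haveI : QuasiCompact z := inferInstanceAs (QuasiCompact (Spec.map _))
  haveI : IsIso (e.hom ≫ fl) := isIso_of_finiteType (gl ≫ z) (e.hom ≫ fl)
  haveI : IsIso fl := IsIso.of_isIso_comp_left e.hom fl
  exact of_stage (P := isomorphisms Scheme.{u}) (c := specCone A) hPk hX s1 s2 (‹IsIso fl› : IsIso fl)

/-- A monomorphic endomorphism of a finitely presented `S`-scheme is an isomorphism. -/
theorem isIso_of_mono {X S : Scheme.{u}} (f : X ⟶ S) [LocallyOfFinitePresentation f] [QuasiCompact f]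
    [QuasiSeparated f] (g : X ⟶ X) (hg : g ≫ f = f) [Mono g] : IsIso g := by
  rw [← isomorphisms.iff,
    IsZariskiLocalAtTarget.iff_of_iSup_eq_top (P := isomorphisms Scheme.{u})
      (fun U : S.affineOpens => f ⁻¹ᵁ U.1)
      (by rw [← Scheme.Hom.preimage_iSup, iSup_affineOpens_eq_top, Scheme.Hom.preimage_top])]
  intro U
  rw [isomorphisms.iff]
  have hpre : g ⁻¹ᵁ (f ⁻¹ᵁ U.1) = f ⁻¹ᵁ U.1 := by rw [← Scheme.Hom.comp_preimage, hg]
  let e := X.isoOfEq hpre
  haveI : Mono (g ∣_ (f ⁻¹ᵁ U.1)) :=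
    IsZariskiLocalAtTarget.restrict (P := monomorphisms Scheme.{u}) (‹Mono g›) _
  let f' := (f ∣_ U.1) ≫ U.2.isoSpec.hom
  have hk : (e.inv ≫ (g ∣_ (f ⁻¹ᵁ U.1))) ≫ (f ∣_ U.1) = f ∣_ U.1 := by
    rw [← cancel_mono U.1.ι, Category.assoc, Category.assoc, morphismRestrict_ι]
    rw [morphismRestrict_ι_assoc, ← Category.assoc]
    show (e.inv ≫ (g ⁻¹ᵁ (f ⁻¹ᵁ U.1)).ι) ≫ g ≫ f = _
    rw [hg, Scheme.isoOfEq_inv_ι]
  haveI : LocallyOfFinitePresentation (f ∣_ U.1) := inferInstance
  haveI : QuasiCompact (f ∣_ U.1) := IsZariskiLocalAtTarget.restrict ‹QuasiCompact f› _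
  haveI : QuasiSeparated (f ∣_ U.1) := IsZariskiLocalAtTarget.restrict ‹QuasiSeparated f› _
  haveI := isIso_of_affine (A := Γ(S, U.1)) f' (e.inv ≫ (g ∣_ (f ⁻¹ᵁ U.1)))
    (by rw [← Category.assoc, hk])
  exact IsIso.of_isIso_comp_left e.inv (g ∣_ (f ⁻¹ᵁ U.1))

end Groth.L08.MonoEndo
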