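import Groth.Agent.L11.Zeta.Points
import Groth.Agent.L02.An.Germ.FlatBij
import Mathlib.RingTheory.Flat.Localization
import Mathlib.RingTheory.Flat.Stability
import Mathlib.RingTheory.Ideal.Quotient.Index
import Mathlib.AlgebraicGeometry.Morphisms.FlatMono
import Mathlib.AlgebraicGeometry.Morphisms.IsIso

/-!
# Monomorphic endomorphisms of schemes of finite type over `ℤ`

Counting points with values in finite local rings shows that such a morphism is an isomorphism
on the completed local rings at closed points.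
-/

universe u

open CategoryTheory CategoryTheory.Limits AlgebraicGeometry IsLocalRing

namespace Groth.L08.MonoEndo

set_option backward.isDefEq.respectTransparency.types false
set_option backward.isDefEq.respectTransparency false
set_option linter.style.haveILetI false

variable {X : Scheme.{u}} (f : X ⟶ Spec (CommRingCat.of (ULift.{u} ℤ))) [LocallyOfFiniteType f]

/-- Ring maps from a finitely generated ring to a finite ring form a finite set. -/
theorem finite_ringHom (B : Type u) [CommRing B] [Algebra.FiniteType ℤ B] (R : Type u) [CommRing R]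
    [Finite R] : Finite (B →+* R) := by
  obtain ⟨s, hs⟩ := ‹Algebra.FiniteType ℤ B›.out
  refine Finite.of_injective (fun φ => fun x : s => φ x.1) fun φ ψ h => ?_
  have := AlgHom.ext_of_adjoin_eq_top (φ₁ := φ.toIntAlgHom) (φ₂ := ψ.toIntAlgHom) hs
    fun x hx => congr_fun h ⟨x, hx⟩
  exact RingHom.ext fun b => DFunLike.congr_fun this b

include f in
/-- A scheme of finite type over `ℤ` has finitely many points with values in a finite local ring. -/
theorem finite_points [QuasiCompact f] (R : Type u) [CommRing R] [Finite R] [IsLocalRing R] :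
    Finite (Spec (CommRingCat.of R) ⟶ X) := by
  classical
  haveI : CompactSpace X := QuasiCompact.compactSpace_of_compactSpace f
  obtain ⟨s, hs⟩ := isCompact_univ.elim_finite_subcover (fun U : X.affineOpens => ((U : X.Opens) : Set X))
    (fun U => U.1.2) (fun x _ => by
      obtain ⟨_, ⟨U, hU, rfl⟩, hxU, -⟩ :=
        X.isBasis_affineOpens.exists_subset_of_mem_open (Set.mem_univ x) isOpen_univ
      exact Set.mem_iUnion.mpr ⟨⟨U, hU⟩, hxU⟩)
  haveI : ∀ U : s, Finite (Γ(X, U.1) →+* R) := fun U =>
    haveI := Groth.L11.Zeta.finiteType_sections f U.1.2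
    finite_ringHom _ R
  let Φ : (Σ U : s, (Γ(X, U.1) →+* R)) → (Spec (CommRingCat.of R) ⟶ X) := fun z =>
    Spec.map (CommRingCat.ofHom z.2) ≫ z.1.1.2.fromSpec
  refine Finite.of_surjective Φ fun g => ?_
  obtain ⟨U, hU, hgU⟩ := Set.mem_iUnion₂.mp (hs (Set.mem_univ (g (closedPoint R))))
  have hsub : Set.range g ⊆ Set.range U.2.fromSpec := by
    rw [U.2.range_fromSpec]
    rintro _ ⟨y, rfl⟩
    exact ((IsLocalRing.specializes_closedPoint y).map g.continuous).mem_open U.1.2 hgU
  refine ⟨⟨⟨U, hU⟩, (Spec.preimage (IsOpenImmersion.lift U.2.fromSpec g hsub)).hom⟩, ?_⟩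
  change Spec.map (Spec.preimage _) ≫ U.2.fromSpec = g
  rw [Spec.map_preimage, IsOpenImmersion.lift_fac]

theorem isNoetherianRing_int : IsNoetherianRing (ULift.{u} ℤ) :=
  isNoetherianRing_of_ringEquiv ℤ (ULift.ringEquiv (R := ℤ)).symm

include f in
theorem isLocallyNoetherian_of_int : IsLocallyNoetherian X := by
  haveI : IsNoetherianRing (CommRingCat.of (ULift.{u} ℤ)) := isNoetherianRing_int
  exact LocallyOfFiniteType.isLocallyNoetherian f

/-- A morphism out of the spectrum of a local ring factors through the local ring of the image of the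
closed point. -/
theorem exists_eq_fromSpecStalk {R : Type u} [CommRing R] [IsLocalRing R]
    (s : Spec (CommRingCat.of R) ⟶ X) {y : X} (h : s (closedPoint R) = y) :
    ∃ σ : X.presheaf.stalk y ⟶ CommRingCat.of R,
      IsLocalHom σ.hom ∧ Spec.map σ ≫ X.fromSpecStalk y = s := by
  subst h
  exact ⟨Scheme.stalkClosedPointTo s, inferInstance, Scheme.Spec_stalkClosedPointTo_fromSpecStalk s⟩

include f in
theorem closed_image (g : X ⟶ X) {y : X} (hy : IsClosed ({y} : Set X)) :
    IsClosed ({g y} : Set X) := by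
  haveI : IsJacobsonRing (ULift.{u} ℤ) := Groth.L11.Zeta.isJacobsonRing_ulift
  haveI : JacobsonSpace X := LocallyOfFiniteType.jacobsonSpace f
  haveI : LocallyOfFiniteType g := by
    have hgf : g ≫ f = f := (specULiftZIsTerminal.{u}).hom_ext _ _
    haveI : LocallyOfFiniteType (g ≫ f) := by rw [hgf]; infer_instance
    exact locallyOfFiniteType_of_comp g f
  exact g.closePoints_subset_preimage_closedPoints hy

variable [QuasiCompact f] (g : X ⟶ X) [Mono g]

include f in
/-- Every point with values in a finite local ring lifts. -/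
theorem exists_lift (R : Type u) [CommRing R] [Finite R] [IsLocalRing R]
    (ψ : Spec (CommRingCat.of R) ⟶ X) : ∃ s, s ≫ g = ψ :=
  haveI := finite_points f R
  Finite.surjective_of_injective (f := fun s : Spec (CommRingCat.of R) ⟶ X => s ≫ g)
    (fun _ _ h => (cancel_mono g).mp h) ψ

omit [QuasiCompact f] in
include f in
theorem finite_quotient_pow {x : X} (hx : IsClosed ({x} : Set X)) (n : ℕ) :
    Finite (X.presheaf.stalk x ⧸ maximalIdeal (X.presheaf.stalk x) ^ n) := by
  haveI : IsLocallyNoetherian X := isLocallyNoetherian_of_int f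
  haveI : Finite (X.presheaf.stalk x ⧸ maximalIdeal (X.presheaf.stalk x)) :=
    Groth.L11.Zeta.finite_residueField f hx
  exact Ideal.finite_quotient_pow (IsNoetherian.noetherian _) n

include f in
/-- A monomorphic endomorphism is bijective on truncated local rings at a closed point. -/
theorem bijective_pow {y : X} (hy : IsClosed ({y} : Set X)) (n : ℕ) :
    (∀ b, ∃ a, b - (g.stalkMap y).hom a ∈ maximalIdeal (X.presheaf.stalk y) ^ n) ∧
      ∀ a, (g.stalkMap y).hom a ∈ maximalIdeal (X.presheaf.stalk y) ^ n →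
        a ∈ maximalIdeal (X.presheaf.stalk (g y)) ^ n := by
  rcases n with - | m
  · simp
  set k := m + 1 with hk
  set Ax := X.presheaf.stalk (g y)
  set Ay := X.presheaf.stalk y
  let mx : Ideal Ax := maximalIdeal Ax
  let my : Ideal Ay := maximalIdeal Ay
  let φ : Ax ⟶ Ay := g.stalkMap y
  have hxk : mx ^ k ≠ ⊤ := fun h =>
    (maximalIdeal.isMaximal Ax).ne_top (top_le_iff.mp (h ▸ Ideal.pow_le_self (by omega)))
  haveI : Nontrivial (Ax ⧸ mx ^ k) := Ideal.Quotient.nontrivial_iff.mpr hxk
  haveI : IsLocalRing (Ax ⧸ mx ^ k) :=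
    .of_surjective' (Ideal.Quotient.mk _) Ideal.Quotient.mk_surjective
  haveI hπl : IsLocalHom (Ideal.Quotient.mk (mx ^ k)) :=
    .of_surjective _ Ideal.Quotient.mk_surjective
  haveI := finite_quotient_pow f (closed_image f g hy) k
  let πx : Ax ⟶ CommRingCat.of (Ax ⧸ mx ^ k) := CommRingCat.ofHom (Ideal.Quotient.mk (mx ^ k))
  let πy : Ay ⟶ CommRingCat.of (Ay ⧸ my ^ k) := CommRingCat.ofHom (Ideal.Quotient.mk (my ^ k))
  let ψ : Spec (CommRingCat.of (Ax ⧸ mx ^ k)) ⟶ X := Spec.map πx ≫ X.fromSpecStalk (g y)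
  obtain ⟨s, hs⟩ := exists_lift f g _ ψ
  have hsy : s (closedPoint (Ax ⧸ mx ^ k)) = y := by
    apply g.injective
    rw [← Scheme.Hom.comp_apply, hs]
    show (X.fromSpecStalk (g y)) ((Spec.map πx) _) = _
    haveI : IsLocalHom πx.hom := hπl
    rw [Spec_closedPoint, Scheme.fromSpecStalk_closedPoint]
  obtain ⟨σ, hσl, hσ⟩ := exists_eq_fromSpecStalk s hsy
  haveI : IsLocalHom φ.hom := inferInstanceAs (IsLocalHom (g.stalkMap y).hom)
  have h1 : φ ≫ σ = πx := by
    apply Spec.map_injective
    rw [← cancel_mono (X.fromSpecStalk (g y)), Spec.map_comp, Category.assoc,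
      Scheme.SpecMap_stalkMap_fromSpecStalk, ← Category.assoc, hσ]
    exact hs
  have hmap : mx ^ k ≤ RingHom.ker (φ ≫ πy).hom := by
    refine (Ideal.pow_right_mono (?_ : mx ≤ my.comap φ.hom) k).trans
      ((Ideal.le_comap_pow φ.hom k).trans fun a ha => ?_)
    · exact fun a ha hu => ha ((isUnit_map_iff φ.hom a).mp hu)
    · exact Ideal.Quotient.eq_zero_iff_mem.mpr ha
  let φk : CommRingCat.of (Ax ⧸ mx ^ k) ⟶ CommRingCat.of (Ay ⧸ my ^ k) :=
    CommRingCat.ofHom (Ideal.Quotient.lift (mx ^ k) (φ ≫ πy).hom fun a ha => hmap ha)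
  have h2 : πx ≫ φk = φ ≫ πy := CommRingCat.hom_ext (RingHom.ext fun a => rfl)
  have h3 : σ ≫ φk = πy := by
    apply Spec.map_injective
    rw [← cancel_mono (X.fromSpecStalk y), Spec.map_comp, Category.assoc, hσ, ← cancel_mono g,
      Category.assoc, hs, Category.assoc, ← Scheme.SpecMap_stalkMap_fromSpecStalk g,
      ← Category.assoc (Spec.map πy), ← Spec.map_comp]
    show Spec.map φk ≫ Spec.map πx ≫ X.fromSpecStalk (g y) = Spec.map (φ ≫ πy) ≫ _
    rw [← h2, Spec.map_comp, Category.assoc]
  refine ⟨fun b => ?_, fun a ha => ?_⟩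
  · obtain ⟨a, ha⟩ := Ideal.Quotient.mk_surjective (σ.hom b)
    refine ⟨a, Ideal.Quotient.eq.mp ?_⟩
    show πy.hom b = (φ ≫ πy).hom a
    rw [← h2, ← h3]
    exact (congrArg φk.hom ha).symm
  · refine Ideal.Quotient.eq_zero_iff_mem.mp ?_
    show πx.hom a = 0
    rw [← h1]
    show σ.hom (φ.hom a) = 0
    have hm : my.map σ.hom ≤ mx.map (Ideal.Quotient.mk (mx ^ k)) := by
      rw [Ideal.map_le_iff_le_comap]
      intro b hb
      obtain ⟨c, hc⟩ := Ideal.Quotient.mk_surjective (σ.hom b)
      have hcm : c ∈ mx := fun hu => hb ((isUnit_map_iff σ.hom b).mp (hc ▸ hu.map _))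
      exact Ideal.mem_comap.mpr (by rw [← hc]; exact Ideal.mem_map_of_mem _ hcm)
    have := Ideal.mem_map_of_mem σ.hom ha
    rw [Ideal.map_pow] at this
    have h0 := Ideal.pow_right_mono hm k this
    rw [← Ideal.map_pow, Ideal.map_quotient_self] at h0
    exact h0

include f in
theorem flat_stalkMap_of_closed {y : X} (hy : IsClosed ({y} : Set X)) :
    (g.stalkMap y).hom.Flat := by
  haveI : IsLocallyNoetherian X := isLocallyNoetherian_of_int f
  algebraize [(g.stalkMap y).hom]
  refine Groth.L02.An.flat_of_bijective_pow ?_ (fun k b => (bijective_pow f g hy k).1 b)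
    fun k a ha => (bijective_pow f g hy k).2 a ha
  rw [Ideal.map_le_iff_le_comap]
  haveI : IsLocalHom (g.stalkMap y).hom := inferInstance
  exact fun a ha hu => ha ((isUnit_map_iff (g.stalkMap y).hom a).mp hu)

omit [LocallyOfFiniteType f] [QuasiCompact f] [Mono g] in
/-- Flatness may be tested on the local rings at the maximal ideals of the target algebra. -/
theorem flat_of_maximal {R S : Type u} [CommRing R] [CommRing S] [Algebra R S]
    (H : ∀ (P : Ideal S) (_ : P.IsMaximal), ∃ (T : Type u) (_ : CommRing T) (_ : Algebra S T),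
      IsLocalization.AtPrime T P ∧ ((algebraMap S T).comp (algebraMap R S)).Flat) :
    Module.Flat R S := by
  refine Module.flat_of_isLocalized_maximal (R := R) S S (fun P _ => Localization.AtPrime P)
    (fun P _ => Algebra.linearMap S (Localization.AtPrime P)) fun P hP => ?_
  obtain ⟨T, _, _, hT, hfl⟩ := H P hP
  let e : T ≃ₐ[S] Localization.AtPrime P :=
    IsLocalization.algEquiv P.primeCompl T (Localization.AtPrime P)
  have h : algebraMap R (Localization.AtPrime P) =
      e.toRingEquiv.toRingHom.comp ((algebraMap S T).comp (algebraMap R S)) := by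
    rw [IsScalarTower.algebraMap_eq R S (Localization.AtPrime P), ← RingHom.comp_assoc]
    congr 1
    exact RingHom.ext fun a => (e.commutes a).symm
  rw [← RingHom.flat_algebraMap_iff, h]
  exact hfl.comp (RingHom.Flat.of_bijective e.bijective)

include f in
theorem flat : Flat g := by
  haveI : IsJacobsonRing (ULift.{u} ℤ) := Groth.L11.Zeta.isJacobsonRing_ulift
  haveI : JacobsonSpace X := LocallyOfFiniteType.jacobsonSpace f
  rw [HasRingHomProperty.iff_appLE (P := @Flat)]
  intro V U e
  algebraize [(g.appLE V.1 U.1 e).hom]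
  let pt : PrimeSpectrum Γ(X, U.1) → X := fun q => U.2.fromSpec q
  have hpt : ∀ q, pt q ∈ U.1 := fun q => by
    rw [← SetLike.mem_coe, ← U.2.range_fromSpec]; exact Set.mem_range_self q
  refine flat_of_maximal fun P h => ?_
  letI := (X.presheaf.germ U.1 _ (hpt ⟨P, h.isPrime⟩)).hom.toAlgebra
  refine ⟨_, inferInstance, this, U.2.isLocalization_stalk' ⟨P, h.isPrime⟩ (hpt _), ?_⟩
  set z := pt ⟨P, h.isPrime⟩ with hz
  have hclU : (⟨P, h.isPrime⟩ : PrimeSpectrum Γ(X, U.1)) ∈ closedPoints (PrimeSpectrum Γ(X, U.1)) :=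
    (PrimeSpectrum.isClosed_singleton_iff_isMaximal _).mpr h
  have hcl : IsClosed ({z} : Set X) := by
    have := U.2.fromSpec.isOpenEmbedding.preimage_closedPoints
    exact (Set.ext_iff.mp this ⟨P, h.isPrime⟩).mpr hclU
  have hgz : g z ∈ V.1 := e (hpt _)
  have hfl1 : (X.presheaf.germ V.1 (g z) hgz).hom.Flat := by
    letI := (X.presheaf.germ V.1 (g z) hgz).hom.toAlgebra
    haveI := V.2.isLocalization_stalk ⟨g z, hgz⟩
    exact IsLocalization.flat (X.presheaf.stalk (g z)) (V.2.primeIdealOf ⟨g z, hgz⟩).asIdeal.primeCompl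
  have h2 : g.appLE V.1 U.1 e ≫ X.presheaf.germ U.1 z (hpt _) =
      X.presheaf.germ V.1 (g z) hgz ≫ g.stalkMap z := by
    rw [Scheme.Hom.germ_stalkMap, Scheme.Hom.appLE, Category.assoc, TopCat.Presheaf.germ_res]
  show (g.appLE V.1 U.1 e ≫ X.presheaf.germ U.1 z (hpt _)).hom.Flat
  rw [h2]
  exact hfl1.comp (flat_stalkMap_of_closed f g hcl)

include f in
theorem surjective : Surjective g := by
  haveI : IsJacobsonRing (ULift.{u} ℤ) := Groth.L11.Zeta.isJacobsonRing_ulift
  haveI : JacobsonSpace X := LocallyOfFiniteType.jacobsonSpace f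
  haveI := flat f g
  haveI : IsLocallyNoetherian X := isLocallyNoetherian_of_int f
  haveI : LocallyOfFiniteType g := by
    have hgf : g ≫ f = f := (specULiftZIsTerminal.{u}).hom_ext _ _
    haveI : LocallyOfFiniteType (g ≫ f) := by rw [hgf]; infer_instance
    exact locallyOfFiniteType_of_comp g f
  have hopen : IsOpen (Set.range g) := g.isOpenMap.isOpen_range
  refine ⟨fun x => ?_⟩
  by_contra hx
  obtain ⟨z, hz, hzc⟩ := nonempty_inter_closedPoints (X := X) (Z := (Set.range g)ᶜ) ⟨x, hx⟩
    hopen.isClosed_compl.isLocallyClosed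
  haveI : Finite (X.residueField z) := Groth.L11.Zeta.finite_residueField f hzc
  haveI : Finite (ResidueField (X.presheaf.stalk z)) := ‹Finite (X.residueField z)›
  obtain ⟨s, hs⟩ := exists_lift f g (ResidueField (X.presheaf.stalk z)) (X.fromSpecResidueField z)
  refine hz ⟨s (closedPoint _), ?_⟩
  rw [← Scheme.Hom.comp_apply, hs]
  exact Scheme.fromSpecResidueField_apply _ _

include f in
/-- A monomorphic endomorphism of a scheme of finite type over `ℤ` is an isomorphism. -/
theorem isIso_of_finiteType : IsIso g := by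
  haveI : IsLocallyNoetherian X := isLocallyNoetherian_of_int f
  haveI := flat f g
  haveI := surjective f g
  haveI : LocallyOfFiniteType g := by
    have hgf : g ≫ f = f := (specULiftZIsTerminal.{u}).hom_ext _ _
    haveI : LocallyOfFiniteType (g ≫ f) := by rw [hgf]; infer_instance
    exact locallyOfFiniteType_of_comp g f
  haveI : IsOpenImmersion g := IsOpenImmersion.of_flat_of_mono g
  exact (isIso_iff_isOpenImmersion_and_surjective g).mpr ⟨inferInstance, inferInstance⟩

end Groth.L08.MonoEndo
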